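import Cfsg.Agent.H649.U33.NF

/-!
# S5525, part F, (L3): `|O| = |P| |W|`, `O = P:W`, `W = ⟨t, w⟩`
-/

set_option autoImplicit false

namespace Cfsg.Agent.H647.U33

open Cfsg.Agent.H863.U33 Cfsg.Agent.H649.U33

variable {G : Type*} [Group G]

theorem card_mul_relIndex {H K : Subgroup G} (h : H ≤ K) : Nat.card H * H.relIndex K = Nat.card K := by
  rw [Subgroup.relIndex, ← Nat.card_congr (Subgroup.subgroupOfEquivOfLe h).toEquiv]
  exact Subgroup.card_mul_index _

/-- `|K H| |K ∩ H| = |K| |H|` -/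
theorem card_sup_mul {K H : Subgroup G} (h : H ≤ Subgroup.normalizer (K : Set G)) :
    Nat.card (K ⊔ H : Subgroup G) * Nat.card (K ⊓ H : Subgroup G) = Nat.card K * Nat.card H := by
  have hKn : (K.subgroupOf (K ⊔ H)).Normal :=
    Subgroup.normal_subgroupOf_of_le_normalizer (sup_le Subgroup.le_normalizer h)
  have h1 := Subgroup.relIndex_sup_left (H.subgroupOf (K ⊔ H)) (K.subgroupOf (K ⊔ H))
  rw [← Subgroup.subgroupOf_sup le_sup_left le_sup_right, Subgroup.subgroupOf_self,
    Subgroup.relIndex_subgroupOf le_sup_right, Subgroup.relIndex_top_right] at h1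
  have h2 : Nat.card K * K.relIndex H = Nat.card (K ⊔ H : Subgroup G) := by
    rw [← h1]
    exact card_mul_relIndex le_sup_left
  have h3 : Nat.card (K ⊓ H : Subgroup G) * K.relIndex H = Nat.card H := by
    rw [← Subgroup.inf_relIndex_right K H]
    exact card_mul_relIndex inf_le_right
  calc _ = Nat.card (K ⊔ H : Subgroup G) * Nat.card (K ⊓ H : Subgroup G) := rfl
    _ = Nat.card K * (Nat.card (K ⊓ H : Subgroup G) * K.relIndex H) := by rw [← h2]; ring
    _ = _ := by rw [h3]

/-- `W = ⟨t, w⟩` -/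
def WW (t : G) (w : Fin 6 → G) : Subgroup G := Subgroup.closure ({t} ∪ Set.range w)

variable {y : G} {e : Fin 8 → G} {t : G} {w : Fin 6 → G} {k : Fin 2 → G} {n : G}

/-- an element `s` with `s⁻¹ e_j s ∈ P`, `s⁻¹ y s ∈ P` normalises `P` -/
theorem mem_normalizer (hc : Nat.card (PP y e) = 3 ^ 9) {s : G} (hy : s⁻¹ * y * s ∈ PP y e)
    (he : ∀ j, s⁻¹ * e j * s ∈ PP y e) : s ∈ Subgroup.normalizer (PP y e : Set G) := by
  have hfin : Finite (PP y e) := Nat.finite_of_card_ne_zero (by rw [hc]; norm_num)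
  have hle : PP y e ≤ (PP y e).comap (MulAut.conj s⁻¹).toMonoidHom := by
    refine (Subgroup.closure_le _).mpr ?_
    rintro x (rfl | ⟨j, rfl⟩)
    · simpa using hy
    · simpa using he j
  have h1 : s⁻¹ ∈ Subgroup.normalizer (PP y e : Set G) := by
    have : Finite ((PP y e : Subgroup G) : Set G) := hfin
    refine Subgroup.mem_normalizer_fintype fun x hx => ?_
    have := hle hx
    simpa using this
  exact inv_mem_iff.mp h1

theorem OO_eq : OO y e t w = PP y e ⊔ WW t w := by
  unfold OO PP WW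
  rw [← Subgroup.closure_union]
  congr 1
  ext x
  simp only [Set.mem_union, Set.mem_singleton_iff, Set.mem_range]
  tauto

theorem WW_le (h : TB y e t w k n) : WW t w ≤ Subgroup.normalizer (PP y e : Set G) := by
  have hn := NB.of_TB h
  have hyP : y ∈ PP y e := Subgroup.subset_closure (Or.inl rfl)
  refine (Subgroup.closure_le _).mpr ?_
  rintro s (rfl | ⟨a, rfl⟩)
  · refine mem_normalizer hn.card ?_ fun j => ?_
    · rw [mul_assoc, ← h.ty, inv_mul_cancel_left]
      exact hyP
    · rw [h.te j]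
      exact hn.mem_PP.mpr ⟨_, _, rfl⟩
  · refine mem_normalizer hn.card ?_ fun j => ?_
    · rw [mul_assoc, ← h.wy a, inv_mul_cancel_left]
      exact hyP
    · rw [h.we a j]
      exact hn.mem_PP.mpr ⟨_, _, rfl⟩

theorem inf_eq_bot (h : TB y e t w k n) (hW : Nat.card (WW t w) = 2 ^ 7) : PP y e ⊓ WW t w = ⊥ := by
  have hn := NB.of_TB h
  refine Subgroup.inf_eq_bot_of_coprime ?_
  rw [hn.card, hW]
  norm_num

theorem card_OO (h : TB y e t w k n) (hW : Nat.card (WW t w) = 2 ^ 7) :
    Nat.card (OO y e t w) = 3 ^ 9 * 2 ^ 7 := by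
  have hn := NB.of_TB h
  have h1 := card_sup_mul (WW_le h)
  rw [inf_eq_bot h hW, Subgroup.card_bot, mul_one, hn.card, hW, ← OO_eq] at h1
  exact h1

/-- every element of `O` is a product of an element of `P` and an element of `W` -/
theorem mem_OO (h : TB y e t w k n) {o : G} (ho : o ∈ OO y e t w) :
    ∃ p ∈ PP y e, ∃ s ∈ WW t w, o = p * s := by
  have hle := WW_le h
  rw [OO_eq] at ho
  have hs : (PP y e ⊔ WW t w : Subgroup G) ≤ Subgroup.normalizer (PP y e : Set G) :=
    sup_le Subgroup.le_normalizer hle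
  have hN : ((PP y e).subgroupOf (PP y e ⊔ WW t w)).Normal :=
    Subgroup.normal_subgroupOf_of_le_normalizer hs
  have h1 : (⟨o, ho⟩ : (PP y e ⊔ WW t w : Subgroup G)) ∈
      (PP y e).subgroupOf (PP y e ⊔ WW t w) ⊔ (WW t w).subgroupOf (PP y e ⊔ WW t w) := by
    rw [← Subgroup.subgroupOf_sup le_sup_left le_sup_right, Subgroup.subgroupOf_self]
    trivial
  rw [← SetLike.mem_coe, Subgroup.normal_mul, Set.mem_mul] at h1
  obtain ⟨a, ha, b, hb, hab⟩ := h1
  exact ⟨a, Subgroup.mem_subgroupOf.mp ha, b, Subgroup.mem_subgroupOf.mp hb, by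
    rw [← Subgroup.coe_mul, hab]⟩

end Cfsg.Agent.H647.U33
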